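import Mathlib
import Groth.Agent.H23.StrongApprox

/-!
# Strong approximation avoiding finitely many elements
-/

open NumberField IsDedekindDomain Filter Topology
open scoped NumberField

namespace Groth.Agent.Lib.NFApprox

universe u
variable {k : Type u} [Field k] [NumberField k]

lemma exists_notMem_image_of_isOpen (w : InfinitePlace k) {U : Set w.Completion} (hU : IsOpen U)
    (hne : U.Nonempty) (F : Finset k) : (U \ algebraMap k w.Completion '' (F : Set k)).Nonempty := by
  obtain ⟨x, hx⟩ := hne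
  have hfin : (algebraMap k w.Completion '' (F : Set k)).Finite := F.finite_toSet.image _
  let f : ℕ → w.Completion := fun N => x + algebraMap k w.Completion ((N : k) + 1)⁻¹
  have hf : Tendsto f atTop (𝓝 x) := by
    refine tendsto_iff_norm_sub_tendsto_zero.2 ?_
    simp only [f, add_sub_cancel_left, H23.StrongApprox.norm_algebraMap_completion]
    have : ∀ N : ℕ, w (((N : k) + 1)⁻¹) = 1 / ((N : ℝ) + 1) := fun N => by
      rw [← w.norm_embedding_eq, map_inv₀, norm_inv, map_add, map_natCast, map_one, one_div]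
      rw [← Nat.cast_one (R := ℂ), ← Nat.cast_add, Complex.norm_natCast, Nat.cast_add, Nat.cast_one]
    simp only [this]
    exact tendsto_one_div_add_atTop_nhds_zero_nat
  obtain ⟨N₀, hN₀⟩ := eventually_atTop.1 (hf.eventually_mem (hU.mem_nhds hx))
  have hinj : Function.Injective f := fun a b h => by
    simpa [f, (algebraMap k w.Completion).injective.eq_iff] using h
  have hinf : (f '' Set.Ici N₀).Infinite := (Set.Ici_infinite N₀).image hinj.injOn
  obtain ⟨y, ⟨N, hN, rfl⟩, hy⟩ := (hinf.sdiff hfin).nonempty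
  exact ⟨f N, hN₀ N hN, hy⟩

/-- Strong approximation off `v₀`, avoiding a finite set of elements. -/
theorem exists_approx_avoid (v₀ : HeightOneSpectrum (𝓞 k)) (S : Finset (HeightOneSpectrum (𝓞 k)))
    (hv₀ : v₀ ∉ S) (U : ∀ v : HeightOneSpectrum (𝓞 k), Set (v.adicCompletion k))
    (hU : ∀ v ∈ S, IsOpen (U v) ∧ (U v).Nonempty)
    (Ui : ∀ w : InfinitePlace k, Set w.Completion) (hUi : ∀ w, IsOpen (Ui w) ∧ (Ui w).Nonempty)
    (F : Finset k) :
    ∃ a : k, a ∉ F ∧ (∀ v, v ≠ v₀ → v ∉ S → v.valuation k a ≤ 1) ∧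
      (∀ v ∈ S, algebraMap k (v.adicCompletion k) a ∈ U v) ∧
      ∀ w, algebraMap k w.Completion a ∈ Ui w := by
  obtain ⟨a, h1, h2, h3⟩ := H23.StrongApprox.exists_strongApprox v₀ S hv₀ U hU
    (fun w => Ui w \ algebraMap k w.Completion '' (F : Set k))
    (fun w => ⟨(hUi w).1.sdiff (F.finite_toSet.image _).isClosed,
      exists_notMem_image_of_isOpen w (hUi w).1 (hUi w).2 F⟩)
  obtain ⟨w⟩ := (inferInstance : Nonempty (InfinitePlace k))
  exact ⟨a, fun ha => (h3 w).2 ⟨a, ha, rfl⟩, h1, h2, fun w => (h3 w).1⟩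

end Groth.Agent.Lib.NFApprox
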