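import Mathlib

/-!
# Norms from finite extensions, in coordinates and in completions
-/

open Polynomial Topology
open scoped TensorProduct

namespace Groth.Agent.Lib.NFApprox

universe u
variable {k L : Type u} [Field k] [Field L] [Algebra k L]
  {ι : Type} [Fintype ι] [DecidableEq ι]

/-- The norm from `K ⊗ L` to `K`, in coordinates. -/
noncomputable def normForm (ω : Module.Basis ι k L) (K : Type u) [CommRing K] [Algebra k K]
    (c : ι → K) : K :=
  Matrix.det (∑ i, c i • (Algebra.leftMulMatrix ω (ω i)).map (algebraMap k K))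

lemma norm_tensor_eq_normForm (ω : Module.Basis ι k L) (K : Type u) [CommRing K] [Algebra k K]
    (x : K ⊗[k] L) :
    Algebra.norm K x = normForm ω K (fun i => (Algebra.TensorProduct.basis K ω).repr x i) := by
  set b := Algebra.TensorProduct.basis K ω with hb
  have hM : ∀ i, Algebra.leftMulMatrix b (b i) =
      (Algebra.leftMulMatrix ω (ω i)).map (algebraMap k K) := fun i => by
    ext p q
    simp [hb, Algebra.leftMulMatrix_eq_repr_mul, Algebra.TensorProduct.tmul_mul_tmul,
      Algebra.algebraMap_eq_smul_one]
  conv_lhs => rw [← b.sum_repr x]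
  rw [Algebra.norm_eq_matrix_det b, map_sum, normForm]
  simp only [map_smul, hM]

lemma continuous_normForm (ω : Module.Basis ι k L) (K : Type u) [CommRing K] [Algebra k K]
    [TopologicalSpace K] [IsTopologicalRing K] : Continuous (normForm ω K) := by
  unfold normForm
  fun_prop

lemma normForm_algebraMap (ω : Module.Basis ι k L) (K : Type u) [CommRing K] [Algebra k K]
    (x : L) :
    normForm ω K (fun i => algebraMap k K (ω.repr x i)) = algebraMap k K (Algebra.norm k x) := by
  conv_rhs => rw [← ω.sum_repr x]
  rw [Algebra.norm_eq_matrix_det ω, map_sum, RingHom.map_det, normForm]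
  congr 1
  rw [map_sum]
  refine Finset.sum_congr rfl fun i _ => ?_
  ext p q
  simp [Matrix.smul_apply, Algebra.smul_def, Matrix.algebraMap_eq_diagonal, Matrix.diagonal_mul]

/-- The elements of `k` whose shift keeps the norm in an open set form a neighbourhood of `0`. -/
lemma exists_open_shift (ω : Module.Basis ι k L) (K : Type u) [CommRing K] [Algebra k K]
    [TopologicalSpace K] [IsTopologicalRing K] {W : Set K} (hW : IsOpen W) (x z : L)
    (hx : algebraMap k K (Algebra.norm k x) ∈ W) :
    ∃ U : Set K, IsOpen U ∧ (0 : K) ∈ U ∧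
      ∀ a : k, algebraMap k K a ∈ U → algebraMap k K (Algebra.norm k (x + a • z)) ∈ W := by
  refine ⟨(fun a : K => normForm ω K fun i =>
    algebraMap k K (ω.repr x i) + a * algebraMap k K (ω.repr z i)) ⁻¹' W,
    hW.preimage ((continuous_normForm ω K).comp (by fun_prop)), ?_, fun a ha => ?_⟩
  · rw [← normForm_algebraMap ω K x] at hx
    simpa using hx
  · rw [← normForm_algebraMap ω K]
    simpa using ha

/-- Near a norm from `K ⊗ L` there are boxes in coordinates whose norms are nearby. -/
lemma exists_open_box (ω : Module.Basis ι k L) (K : Type u) [CommRing K] [Algebra k K]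
    [TopologicalSpace K] [IsTopologicalRing K] {W : Set K} (hW : IsOpen W)
    (X : K ⊗[k] L) (hX : Algebra.norm K X ∈ W) :
    ∃ U : ι → Set K, (∀ i, IsOpen (U i) ∧ (U i).Nonempty) ∧
      ∀ c : ι → k, (∀ i, algebraMap k K (c i) ∈ U i) →
        algebraMap k K (Algebra.norm k (∑ i, c i • ω i)) ∈ W := by
  rw [norm_tensor_eq_normForm ω K X] at hX
  obtain ⟨U, hU, hsub⟩ := isOpen_pi_iff'.1 (hW.preimage (continuous_normForm ω K)) _ hX
  refine ⟨U, fun i => ⟨(hU i).1, _, (hU i).2⟩, fun c hc => ?_⟩
  rw [← normForm_algebraMap ω K, ω.repr_sum_self]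
  exact hsub fun i _ => hc i

lemma norm_shift_eq_eval (ω : Module.Basis ι k L) (y : L)
    (hy : IntermediateField.adjoin k {y} = ⊤) (a : k) :
    Algebra.norm k (algebraMap k L a - y) = (minpoly k y).eval a := by
  have : FiniteDimensional k L := Module.Finite.of_basis ω
  set M := Algebra.leftMulMatrix ω y
  have hdvd : minpoly k y ∣ M.charpoly := by
    refine minpoly.dvd k y ((Algebra.leftMulMatrix_injective ω) ?_)
    rw [← aeval_algHom_apply, Matrix.aeval_self_charpoly, map_zero]
  have hdeg : M.charpoly.natDegree ≤ (minpoly k y).natDegree := by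
    rw [Matrix.charpoly_natDegree_eq_dim, ← Module.finrank_eq_card_basis ω]
    exact ((Field.primitive_element_iff_minpoly_natDegree_eq k y).1 hy).ge
  rw [← eq_of_monic_of_dvd_of_natDegree_le (minpoly.monic (IsIntegral.of_finite k y))
    (Matrix.charpoly_monic M) hdvd hdeg, Matrix.eval_charpoly,
    Algebra.norm_eq_matrix_det ω, map_sub, AlgHom.commutes]
  rfl

end Groth.Agent.Lib.NFApprox
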