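import Mathlib

/-!
# Hensel's lemma in complete ultrametric normed fields, and simple roots in adic completions
-/

open Polynomial Filter Topology

namespace Groth.Agent.Lib.NFApprox

universe u

section Ultrametric

variable {F : Type u} [NormedField F] [IsUltrametricDist F]

/-- The closed unit ball of an ultrametric normed field, as a subring. -/
def unitBall (F : Type u) [NormedField F] [IsUltrametricDist F] : Subring F where
  carrier := {x | ‖x‖ ≤ 1}
  mul_mem' {x y} hx hy := by
    simp only [Set.mem_ofPred_eq, norm_mul] at *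
    exact mul_le_one₀ hx (norm_nonneg _) hy
  one_mem' := by simp
  add_mem' {x y} hx hy := (IsUltrametricDist.norm_add_le_max x y).trans (max_le hx hy)
  zero_mem' := by simp
  neg_mem' {x} hx := by simpa using hx

lemma newton_step {q : (unitBall F)[X]} {x : F} {δ : ℝ} {n : ℕ} (hδ : δ < 1) (hδ0 : 0 ≤ δ)
    (hx : ‖x‖ ≤ 1) (hd : ‖(q.map (unitBall F).subtype).derivative.eval x‖ = 1)
    (hv : ‖(q.map (unitBall F).subtype).eval x‖ ≤ δ ^ (n + 1)) :
    let p := q.map (unitBall F).subtype
    let y := x - p.eval x / p.derivative.eval x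
    ‖y‖ ≤ 1 ∧ ‖p.derivative.eval y‖ = 1 ∧ ‖p.eval y‖ ≤ δ ^ (n + 2) ∧ dist x y ≤ δ * δ ^ n := by
  intro p y
  have hp1 : δ ^ (n + 1) < 1 := pow_lt_one₀ hδ0 hδ (Nat.succ_ne_zero n)
  have hh : ‖-(p.eval x / p.derivative.eval x)‖ ≤ δ ^ (n + 1) := by
    rw [norm_neg, norm_div, hd, div_one]; exact hv
  let X0 : unitBall F := ⟨x, hx⟩
  let H0 : unitBall F := ⟨-(p.eval x / p.derivative.eval x), hh.trans hp1.le⟩
  have hy : y = ((X0 + H0 : unitBall F) : F) := by simp [y, X0, H0, sub_eq_add_neg]
  have ev : ∀ (r : (unitBall F)[X]) (z : unitBall F),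
      ((r.eval z : unitBall F) : F) = (r.map (unitBall F).subtype).eval (z : F) := fun r z => by
    rw [eval_map]; exact hom_eval₂ r (RingHom.id _) (unitBall F).subtype z |>.trans rfl
  refine ⟨?_, ?_, ?_, ?_⟩
  · rw [hy]; exact (X0 + H0).2
  · obtain ⟨c, hc⟩ := sub_dvd_eval_sub (X0 + H0) X0 q.derivative
    rw [add_sub_cancel_left] at hc
    have hc' : p.derivative.eval y = p.derivative.eval x + (H0 : F) * (c : F) := by
      have := congrArg (fun t : unitBall F => (t : F)) hc
      simp only [AddSubgroupClass.coe_sub, Subring.coe_mul, ev, ← derivative_map] at this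
      rw [hy]
      linear_combination this
    rw [hc', IsUltrametricDist.norm_add_eq_max_of_norm_ne_norm, hd, max_eq_left]
    · rw [norm_mul]; exact mul_le_one₀ (hh.trans hp1.le) (norm_nonneg _) c.2
    · rw [hd, norm_mul]
      exact (lt_of_le_of_lt (mul_le_of_le_one_right (norm_nonneg _) c.2) (hh.trans_lt hp1)).ne'
  · obtain ⟨c, hc⟩ := binomExpansion q X0 H0
    have hc' : p.eval y = (c : F) * (H0 : F) ^ 2 := by
      have := congrArg (fun t : unitBall F => (t : F)) hc
      simp only [Subring.coe_add, Subring.coe_mul, SubmonoidClass.coe_pow, ev, ← derivative_map] at this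
      have hne : p.derivative.eval x ≠ 0 := by
        intro h; rw [h] at hd; simp at hd
      rw [hy, Subring.coe_add, this]
      simp only [H0, X0]
      rw [mul_neg, mul_div_cancel₀ _ hne]
      ring
    rw [hc', norm_mul, norm_pow]
    calc ‖(c : F)‖ * ‖(H0 : F)‖ ^ 2 ≤ 1 * (δ ^ (n + 1)) ^ 2 :=
          mul_le_mul c.2 (pow_le_pow_left₀ (norm_nonneg _) hh 2) (by positivity) zero_le_one
      _ = δ ^ (n + 2) * δ ^ n := by ring
      _ ≤ δ ^ (n + 2) := mul_le_of_le_one_right (by positivity) (pow_le_one₀ hδ0 hδ.le)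
  · rw [dist_eq_norm, sub_sub_cancel, ← norm_neg, ← pow_succ']
    exact hh

variable [CompleteSpace F]

/-- **Hensel's lemma**: a simple root modulo the maximal ideal lifts to a root. -/
theorem exists_root_of_simple (p : F[X]) (hp : ∀ i, ‖p.coeff i‖ ≤ 1) (a : F) (ha : ‖a‖ ≤ 1)
    (h0 : ‖p.eval a‖ < 1) (h1 : ‖p.derivative.eval a‖ = 1) : ∃ r, p.IsRoot r := by
  obtain ⟨q, rfl⟩ : ∃ q : (unitBall F)[X], q.map (unitBall F).subtype = p := by
    refine ⟨p.toSubring _ ?_, p.map_toSubring _ _⟩
    intro x hx
    obtain ⟨i, -, rfl⟩ := Polynomial.mem_coeffs_iff.1 hx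
    exact hp i
  set p := q.map (unitBall F).subtype
  let δ := ‖p.eval a‖
  let N : F → F := fun x => x - p.eval x / p.derivative.eval x
  let f : ℕ → F := fun n => N^[n] a
  have key : ∀ n, ‖f n‖ ≤ 1 ∧ ‖p.derivative.eval (f n)‖ = 1 ∧ ‖p.eval (f n)‖ ≤ δ ^ (n + 1) := by
    intro n
    induction n with
    | zero => exact ⟨ha, h1, by simp [f, δ]⟩
    | succ n ih =>
      simp only [f, Function.iterate_succ_apply']
      have := newton_step h0 (norm_nonneg _) ih.1 ih.2.1 ih.2.2
      exact ⟨this.1, this.2.1, this.2.2.1⟩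
  have hc : CauchySeq f := by
    refine cauchySeq_of_le_geometric δ δ h0 fun n => ?_
    simp only [f, Function.iterate_succ_apply']
    exact (newton_step h0 (norm_nonneg _) (key n).1 (key n).2.1 (key n).2.2).2.2.2
  obtain ⟨r, hr⟩ := cauchySeq_tendsto_of_complete hc
  refine ⟨r, tendsto_nhds_unique ((p.continuous.tendsto r).comp hr) ?_⟩
  refine squeeze_zero_norm (fun n => (key n).2.2) ?_
  exact (tendsto_pow_atTop_nhds_zero_of_lt_one (norm_nonneg _) h0).comp (tendsto_add_atTop_nat 1)

end Ultrametric

section Adic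

open NumberField IsDedekindDomain
open scoped NumberField Valued

variable {k : Type u} [Field k] [NumberField k] (v : HeightOneSpectrum (𝓞 k))

lemma norm_algebraMap_le_one_iff (x : k) :
    ‖algebraMap k (v.adicCompletion k) x‖ ≤ 1 ↔ v.valuation k x ≤ 1 := by
  rw [Valued.toNormedField.norm_le_one_iff]
  rw [show algebraMap k (v.adicCompletion k) x = (x : v.adicCompletion k) from rfl,
    v.valuedAdicCompletion_eq_valuation' x]

lemma norm_algebraMap_lt_one_iff (x : k) :
    ‖algebraMap k (v.adicCompletion k) x‖ < 1 ↔ v.valuation k x < 1 := by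
  rw [Valued.toNormedField.norm_lt_one_iff]
  rw [show algebraMap k (v.adicCompletion k) x = (x : v.adicCompletion k) from rfl,
    v.valuedAdicCompletion_eq_valuation' x]

/-- A polynomial over `k` with a simple root modulo `v` has a root in the completion at `v`. -/
theorem exists_root_adic (P : k[X]) (hP : ∀ i, v.valuation k (P.coeff i) ≤ 1) (a : k)
    (ha : v.valuation k a ≤ 1) (h0 : v.valuation k (P.eval a) < 1)
    (h1 : v.valuation k (P.derivative.eval a) = 1) :
    ∃ r : v.adicCompletion k, aeval r P = 0 := by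
  obtain ⟨r, hr⟩ := exists_root_of_simple (P.map (algebraMap k (v.adicCompletion k)))
    (fun i => by rw [coeff_map, norm_algebraMap_le_one_iff]; exact hP i)
    (algebraMap k _ a) ((norm_algebraMap_le_one_iff v a).2 ha)
    (by rw [eval_map_apply, norm_algebraMap_lt_one_iff]; exact h0)
    (by
      rw [derivative_map, eval_map_apply]
      refine le_antisymm ((norm_algebraMap_le_one_iff v _).2 h1.le) (not_lt.1 fun h => ?_)
      rw [norm_algebraMap_lt_one_iff, h1] at h
      exact lt_irrefl _ h)
  exact ⟨r, by rw [aeval_def, eval₂_eq_eval_map]; exact hr⟩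

omit [NumberField k] in
/-- A root of the minimal polynomial of a generator gives an embedding. -/
theorem nonempty_algHom_of_root {L : Type u} [Field L] [Algebra k L] {K : Type u} [Field K]
    [Algebra k K] (y : L) (hy : IsIntegral k y) (htop : IntermediateField.adjoin k {y} = ⊤)
    (r : K) (hr : aeval r (minpoly k y) = 0) : Nonempty (L →ₐ[k] K) :=
  ⟨((IntermediateField.adjoin.powerBasis hy).lift r (by
      rw [show (IntermediateField.adjoin.powerBasis hy).gen = IntermediateField.AdjoinSimple.gen k y
        from rfl, IntermediateField.minpoly_gen]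
      exact hr)).comp
    ((IntermediateField.equivOfEq htop.symm).toAlgHom.comp IntermediateField.topEquiv.symm.toAlgHom)⟩

end Adic

end Groth.Agent.Lib.NFApprox
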