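import Mathlib
import Groth.Agent.Lib.NFApprox.Hensel

/-!
# Places of degree one exist outside any finite set
-/

open NumberField IsDedekindDomain Polynomial Filter
open scoped NumberField

namespace Groth.Agent.Lib.NFApprox

universe u
variable {k : Type u} [Field k] [NumberField k]

lemma valuation_eval_le_one (v : HeightOneSpectrum (𝓞 k)) (P : k[X])
    (hP : ∀ i, v.valuation k (P.coeff i) ≤ 1) (a : k) (ha : v.valuation k a ≤ 1) :
    v.valuation k (P.eval a) ≤ 1 := by
  rw [eval_eq_sum_range]
  refine (v.valuation k).map_sum_le fun i _ => ?_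
  rw [map_mul, map_pow]
  exact mul_le_one' (hP i) (pow_le_one' ha i)

lemma valuation_derivative_coeff_le_one (v : HeightOneSpectrum (𝓞 k)) (P : k[X])
    (hP : ∀ i, v.valuation k (P.coeff i) ≤ 1) (i : ℕ) :
    v.valuation k (P.derivative.coeff i) ≤ 1 := by
  rw [coeff_derivative, map_mul]
  refine mul_le_one' (hP _) ?_
  have := v.valuation_le_one (K := k) ((i + 1 : ℕ) : 𝓞 k)
  push_cast at this
  exact this

/-- For a separable polynomial, all roots modulo all but finitely many places are simple. -/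
lemma exists_finset_simple (P : k[X]) (hP : P.Separable) :
    ∃ B : Finset (HeightOneSpectrum (𝓞 k)), ∀ v ∉ B, (∀ i, v.valuation k (P.coeff i) ≤ 1) →
      ∀ a : k, v.valuation k a ≤ 1 → v.valuation k (P.eval a) < 1 →
        v.valuation k (P.derivative.eval a) = 1 := by
  classical
  obtain ⟨u, w, huw⟩ := hP
  let T : Finset k := u.coeffs ∪ w.coeffs
  have hfin : (⋃ c ∈ T, HeightOneSpectrum.Support (𝓞 k) c).Finite :=
    T.finite_toSet.biUnion fun c _ => HeightOneSpectrum.Support.finite (𝓞 k) c
  refine ⟨hfin.toFinset, fun v hv hc a ha h0 => ?_⟩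
  have hT : ∀ c ∈ T, v.valuation k c ≤ 1 := fun c hc => not_lt.1 fun h =>
    hv (hfin.mem_toFinset.2 (Set.mem_biUnion hc h))
  have hco : ∀ (q : k[X]), q.coeffs ⊆ T → ∀ i, v.valuation k (q.coeff i) ≤ 1 := fun q hq i => by
    by_cases h : q.coeff i = 0
    · simp [h]
    · exact hT _ (hq (coeff_mem_coeffs h))
  have hu := valuation_eval_le_one v u (hco u Finset.subset_union_left) a ha
  have hw := valuation_eval_le_one v w (hco w Finset.subset_union_right) a ha
  have hd := valuation_eval_le_one v _ (valuation_derivative_coeff_le_one v P hc) a ha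
  refine le_antisymm hd (not_lt.1 fun h => ?_)
  have e := congrArg (v.valuation k) (congrArg (eval a) huw)
  simp only [eval_add, eval_mul, eval_one, map_one] at e
  refine absurd e (ne_of_lt ((v.valuation k).map_add_lt ?_ ?_))
  · rw [map_mul]; exact lt_of_le_of_lt (mul_le_of_le_one_left' hu) h0
  · rw [map_mul]; exact lt_of_le_of_lt (mul_le_of_le_one_left' hw) h

lemma exists_integral_primitive (L : Type u) [Field L] [NumberField L] [Algebra k L] :
    ∃ θ : L, θ ≠ 0 ∧ IsIntegral (𝓞 k) θ ∧ IntermediateField.adjoin k {θ} = ⊤ := by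
  have : FiniteDimensional k L := Module.Finite.of_restrictScalars_finite ℚ k L
  obtain ⟨α, hα⟩ := Field.exists_primitive_element k L
  obtain ⟨β, hβ0, hβ⟩ : ∃ β : L, β ≠ 0 ∧ IntermediateField.adjoin k {β} = ⊤ := by
    by_cases h : α = 0
    · refine ⟨1, one_ne_zero, ?_⟩
      subst h
      rw [IntermediateField.adjoin_one]
      rwa [IntermediateField.adjoin_zero] at hα
    · exact ⟨α, h, hα⟩
  obtain ⟨y, hy, hint⟩ := exists_integral_multiples (𝓞 k) k ({β} : Finset L)
  refine ⟨y • β, smul_ne_zero hy hβ0, hint β (Finset.mem_singleton_self β), ?_⟩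
  refine top_le_iff.1 (hβ ▸ IntermediateField.adjoin_simple_le_iff.2 ?_)
  have hy' : algebraMap (𝓞 k) k y ≠ 0 := by simpa using hy
  have h1 : algebraMap k L (algebraMap (𝓞 k) k y)⁻¹ * (y • β) ∈
      IntermediateField.adjoin k {y • β} :=
    mul_mem (IntermediateField.algebraMap_mem _ _) (IntermediateField.mem_adjoin_simple_self k _)
  convert h1 using 1
  rw [Algebra.smul_def, IsScalarTower.algebraMap_apply (𝓞 k) k L, ← mul_assoc, ← map_mul,
    inv_mul_cancel₀ hy', map_one, one_mul]

/-- A number field extension has a place of degree one outside any given finite set. -/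
theorem exists_split_place (L : Type u) [Field L] [NumberField L] [Algebra k L]
    (B₀ : Finset (HeightOneSpectrum (𝓞 k))) :
    ∃ v ∉ B₀, Nonempty (L →ₐ[k] v.adicCompletion k) := by
  classical
  have : FiniteDimensional k L := Module.Finite.of_restrictScalars_finite ℚ k L
  obtain ⟨θ, hθ0, hθ, htop⟩ := exists_integral_primitive (k := k) L
  have hθk : IsIntegral k θ := hθ.tower_top
  have hmap := minpoly.isIntegrallyClosed_eq_field_fractions' k hθ
  set Q := minpoly (𝓞 k) θ with hQ
  obtain ⟨B₁, hB₁⟩ := exists_finset_simple (minpoly k θ) (Algebra.IsSeparable.isSeparable k θ)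
  let B := B₀ ∪ B₁
  choose m hm using fun v : HeightOneSpectrum (𝓞 k) => Submodule.exists_mem_ne_zero_of_ne_bot v.ne_bot
  let M : 𝓞 k := ∏ v ∈ B, m v
  have hM0 : M ≠ 0 := Finset.prod_ne_zero_iff.2 fun v _ => (hm v).2
  have hMv : ∀ v ∈ B, M ∈ v.asIdeal := fun v hv => by
    simp only [M]
    rw [← Finset.mul_prod_erase _ _ hv]
    exact v.asIdeal.mul_mem_right _ (hm v).1
  let c : 𝓞 k := Q.coeff 0
  have hc0 : c ≠ 0 := by
    intro h
    refine minpoly.coeff_zero_ne_zero hθk hθ0 ?_
    rw [hmap, coeff_map]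
    simp only [c] at h
    rw [h, map_zero]
  let a : ℕ → 𝓞 k := fun j => c * M * j
  let e : ℕ → 𝓞 k := fun j => M * j * Q.divX.eval (a j)
  have hQa : ∀ j, Q.eval (a j) = c * (1 + e j) := fun j => by
    conv_lhs => rw [← divX_mul_X_add Q]
    simp only [eval_add, eval_mul, eval_X, eval_C, c, e, a]
    ring
  have hPa : ∀ j, (minpoly k θ).eval (algebraMap (𝓞 k) k (a j)) =
      algebraMap (𝓞 k) k (c * (1 + e j)) := fun j => by
    rw [hmap, eval_map_apply, hQa]
  have hev : ∀ w : InfinitePlace k, ∀ᶠ j : ℕ in atTop, 1 < w (algebraMap (𝓞 k) k (1 + e j)) := by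
    intro w
    have hwc : 0 < w (algebraMap (𝓞 k) k c) := InfinitePlace.pos_iff.2 (by simpa using hc0)
    have hz : Tendsto (w.1 ∘ fun j => algebraMap (𝓞 k) k (a j)) atTop atTop := by
      have : (w.1 ∘ fun j => algebraMap (𝓞 k) k (a j)) =
          fun j : ℕ => w (algebraMap (𝓞 k) k (c * M)) * (j : ℝ) := by
        funext j
        simp only [Function.comp_apply, a, map_mul, map_natCast]
        have hj : w.1 (j : k) = (j : ℝ) := by
          rw [show w.1 (j : k) = w (j : k) from rfl, ← w.norm_embedding_eq, map_natCast,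
            Complex.norm_natCast]
        rw [hj]; rfl
      rw [this]
      refine tendsto_natCast_atTop_atTop.const_mul_atTop (InfinitePlace.pos_iff.2 ?_)
      simp [hc0, hM0]
    have h := (minpoly k θ).tendsto_abv_atTop w.1
      (minpoly.degree_pos hθk) hz
    filter_upwards [h.eventually_gt_atTop (w (algebraMap (𝓞 k) k c))] with j hj
    rw [hPa, map_mul, w.1.map_mul] at hj
    exact (lt_mul_iff_one_lt_right hwc).1 hj
  obtain ⟨j, hj⟩ := (eventually_all.2 hev).exists
  have hnu : ¬ IsUnit (1 + e j) := by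
    intro h
    rw [NumberField.isUnit_iff_norm, RingOfIntegers.coe_norm] at h
    have hp := InfinitePlace.prod_eq_abs_norm (algebraMap (𝓞 k) k (1 + e j))
    rw [show (algebraMap (𝓞 k) k (1 + e j)) = ((1 + e j : 𝓞 k) : k) from rfl] at hp hj
    rw [h, Rat.cast_one] at hp
    refine absurd hp (ne_of_gt ?_)
    obtain ⟨w⟩ := (inferInstance : Nonempty (InfinitePlace k))
    calc (1 : ℝ) = ∏ _w : InfinitePlace k, (1 : ℝ) := Finset.prod_const_one.symm
      _ < _ := Finset.prod_lt_prod (fun _ _ => one_pos) (fun w' _ => one_le_pow₀ (hj w').le)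
        ⟨w, Finset.mem_univ _, one_lt_pow₀ (hj w) InfinitePlace.mult_ne_zero⟩
  obtain ⟨I, hI, hIe⟩ := exists_max_ideal_of_mem_nonunits hnu
  have hu0 : (1 + e j) ≠ 0 := by
    intro h
    obtain ⟨w⟩ := (inferInstance : Nonempty (InfinitePlace k))
    have := hj w
    rw [h, map_zero, map_zero] at this
    exact absurd this (by norm_num)
  let v : HeightOneSpectrum (𝓞 k) := ⟨I, hI.isPrime, fun h => hu0 (by simpa [h] using hIe)⟩
  have hvB : v ∉ B := fun h => hI.ne_top ((Ideal.eq_top_iff_one _).2 (by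
    have he : e j ∈ I := I.mul_mem_right _ (I.mul_mem_right _ (hMv v h))
    simpa using I.sub_mem hIe he))
  have hP : ∀ i, v.valuation k ((minpoly k θ).coeff i) ≤ 1 := fun i => by
    rw [hmap, coeff_map]; exact v.valuation_le_one _
  have h0 : v.valuation k ((minpoly k θ).eval (algebraMap (𝓞 k) k (a j))) < 1 := by
    rw [hPa, v.valuation_lt_one_iff_mem]
    exact v.asIdeal.mul_mem_left _ hIe
  have h1 := hB₁ v (fun h => hvB (Finset.mem_union_right _ h)) hP _ (v.valuation_le_one _) h0
  obtain ⟨r, hr⟩ := exists_root_adic v _ hP _ (v.valuation_le_one _) h0 h1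
  exact ⟨v, fun h => hvB (Finset.mem_union_left _ h),
    nonempty_algHom_of_root θ hθk htop r hr⟩

end Groth.Agent.Lib.NFApprox
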