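import Mathlib
import Groth.Agent.Lib.NFApprox.Approx
import Groth.Agent.Lib.NFApprox.SplitPlace
import Groth.Agent.Lib.NFApprox.Norm

/-!
# Norms which are units or have a place of degree one
-/

open NumberField IsDedekindDomain Polynomial Topology
open scoped NumberField TensorProduct Valued

namespace Groth.Agent.Lib.NFApprox

universe u
variable {k L : Type u} [Field k] [NumberField k] [Field L] [NumberField L] [Algebra k L]

local notation "Pl" => HeightOneSpectrum (𝓞 k)

lemma exists_integral_basis :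
    ∃ (n : ℕ) (ω : Module.Basis (Fin n) k L), ∀ i, IsIntegral (𝓞 k) (ω i) := by
  classical
  have : FiniteDimensional k L := Module.Finite.of_restrictScalars_finite ℚ k L
  obtain ⟨s, b, hb⟩ := FiniteDimensional.exists_is_basis_integral (𝓞 k) k L
  exact ⟨_, b.reindex s.equivFin, fun i => by rw [Module.Basis.reindex_apply]; exact hb _⟩

/-- Stage one: a primitive element with prescribed norms, integral outside `S` and `v₀`. -/
lemma exists_primitive_near {n : ℕ} (ω : Module.Basis (Fin n) k L)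
    (hω : ∀ i, IsIntegral (𝓞 k) (ω i)) (v₀ : Pl) (S : Finset Pl) (hv₀ : v₀ ∉ S)
    (W : ∀ v : Pl, Set (v.adicCompletion k))
    (hW : ∀ v ∈ S, IsOpen (W v) ∧ ∃ X : v.adicCompletion k ⊗[k] L, Algebra.norm _ X ∈ W v)
    (Wi : ∀ w : InfinitePlace k, Set w.Completion)
    (hWi : ∀ w, IsOpen (Wi w) ∧ ∃ X : w.Completion ⊗[k] L, Algebra.norm _ X ∈ Wi w) :
    ∃ x : L, IntermediateField.adjoin k {x} = ⊤ ∧
      (∀ v, v ≠ v₀ → v ∉ S → ∀ i, v.valuation k ((minpoly k (-x)).coeff i) ≤ 1) ∧
      (∀ v ∈ S, algebraMap k (v.adicCompletion k) (Algebra.norm k x) ∈ W v) ∧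
      ∀ w, algebraMap k w.Completion (Algebra.norm k x) ∈ Wi w := by
  classical
  have : FiniteDimensional k L := Module.Finite.of_restrictScalars_finite ℚ k L
  have hbox : ∀ v : Pl, ∃ U : Fin n → Set (v.adicCompletion k), v ∈ S →
      (∀ i, IsOpen (U i) ∧ (U i).Nonempty) ∧ ∀ c : Fin n → k,
        (∀ i, algebraMap k _ (c i) ∈ U i) →
          algebraMap k (v.adicCompletion k) (Algebra.norm k (∑ i, c i • ω i)) ∈ W v := by
    intro v
    by_cases hv : v ∈ S
    · obtain ⟨X, hX⟩ := (hW v hv).2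
      obtain ⟨U, hU⟩ := exists_open_box ω _ (hW v hv).1 X hX
      exact ⟨U, fun _ => hU⟩
    · exact ⟨fun _ => Set.univ, fun h => absurd h hv⟩
  choose U hU using hbox
  choose Ui hUi using fun w => (hWi w).2.elim fun X hX => exists_open_box ω _ (hWi w).1 X hX
  choose c hc₁ hc₂ hc₃ using fun i => H23.StrongApprox.exists_strongApprox v₀ S hv₀
    (fun v => U v i) (fun v hv => (hU v hv).1 i) (fun w => Ui w i) (fun w => (hUi w).1 i)
  let x₀ := ∑ i, c i • ω i
  obtain ⟨θ, hθ0, hθ, hθtop⟩ := exists_integral_primitive (k := k) L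
  have hsh : ∀ v : Pl, ∃ V : Set (v.adicCompletion k), v ∈ S → IsOpen V ∧ (0 : v.adicCompletion k) ∈ V ∧
      ∀ a : k, algebraMap k _ a ∈ V →
        algebraMap k (v.adicCompletion k) (Algebra.norm k (x₀ + a • θ)) ∈ W v := by
    intro v
    by_cases hv : v ∈ S
    · obtain ⟨V, hV⟩ := exists_open_shift ω _ (hW v hv).1 x₀ θ
        ((hU v hv).2 c fun i => hc₂ i v hv)
      exact ⟨V, fun _ => hV⟩
    · exact ⟨Set.univ, fun h => absurd h hv⟩
  choose V hV using hsh
  choose Vi hVi using fun w => exists_open_shift ω _ (hWi w).1 x₀ θ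
    ((hUi w).2 c fun i => hc₃ i w)
  have : Finite (IntermediateField k L) :=
    Field.finite_intermediateField_of_exists_primitive_element k L ⟨θ, hθtop⟩
  let : Fintype (IntermediateField k L) := Fintype.ofFinite _
  let bad : IntermediateField k L → k := fun E =>
    if h : ∃ a : k, x₀ + a • θ ∈ E then h.choose else 0
  obtain ⟨a, haF, ha₁, ha₂, ha₃⟩ := exists_approx_avoid v₀ S hv₀ V
    (fun v hv => ⟨(hV v hv).1, _, (hV v hv).2.1⟩) Vi (fun w => ⟨(hVi w).1, _, (hVi w).2.1⟩)
    (Finset.univ.image bad)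
  have htop : IntermediateField.adjoin k {x₀ + a • θ} = ⊤ := by
    set E := IntermediateField.adjoin k {x₀ + a • θ}
    have hmem : x₀ + a • θ ∈ E := IntermediateField.mem_adjoin_simple_self k _
    have h : ∃ b : k, x₀ + b • θ ∈ E := ⟨a, hmem⟩
    have hne : a - h.choose ≠ 0 := sub_ne_zero.2 fun e =>
      haF (Finset.mem_image.2 ⟨E, Finset.mem_univ _, by simp only [bad, dif_pos h]; exact e.symm⟩)
    have hd : (a - h.choose) • θ ∈ E := by
      have := E.sub_mem hmem h.choose_spec
      rwa [add_sub_add_left_eq_sub, ← sub_smul] at this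
    have : θ ∈ E := by
      have := E.smul_mem hd (x := (a - h.choose)⁻¹)
      rwa [inv_smul_smul₀ hne] at this
    exact top_le_iff.1 (hθtop ▸ IntermediateField.adjoin_simple_le_iff.2 this)
  refine ⟨_, htop, fun v hv hvS i => ?_, fun v hv => (hV v hv).2.2 a (ha₂ v hv),
    fun w => (hVi w).2.2 a (ha₃ w)⟩
  let O := (v.valuation k).valuationSubring
  have : IsScalarTower O k L := IsScalarTower.of_algebraMap_eq fun _ => rfl
  let f : 𝓞 k →+* O := (algebraMap (𝓞 k) k).codRestrict O fun r => v.valuation_le_one r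
  have hf : ∀ z : L, IsIntegral (𝓞 k) z → IsIntegral O z := by
    rintro z ⟨p, hp, hz⟩
    refine ⟨p.map f, hp.map f, ?_⟩
    rw [eval₂_map]
    exact hz
  have hmem : ∀ (q : k) (z : L), v.valuation k q ≤ 1 → IsIntegral (𝓞 k) z → IsIntegral O (q • z) :=
    fun q z hq hz => by
      rw [Algebra.smul_def]
      exact (show IsIntegral O (algebraMap k L q) from
        isIntegral_algebraMap (R := O) (x := ⟨q, hq⟩)).mul (hf z hz)
  have hint : IsIntegral O (x₀ + a • θ) :=
    (IsIntegral.sum _ fun j _ => hmem _ _ (hc₁ j v hv hvS) (hω j)).add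
      (hmem _ _ (ha₁ v hv hvS) hθ)
  rw [minpoly.isIntegrallyClosed_eq_field_fractions' k hint.neg, coeff_map]
  exact ((minpoly O (-(x₀ + a • θ))).coeff i).2

/-- Many incongruent integers avoid the roots of a monic polynomial modulo a big place. -/
lemma exists_eval_unit (v : Pl) (P : k[X]) (hm : P.Monic)
    (hcard : P.natDegree < Ideal.absNorm v.asIdeal) (hP : ∀ i, v.valuation k (P.coeff i) ≤ 1) :
    ∃ a : 𝓞 k, v.valuation k (P.eval (algebraMap (𝓞 k) k a)) = 1 := by
  classical
  by_contra h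
  push Not at h
  have hlt : ∀ a : 𝓞 k, v.valuation k (P.eval (algebraMap (𝓞 k) k a)) < 1 := fun a =>
    lt_of_le_of_ne (valuation_eval_le_one v P hP _ (v.valuation_le_one a)) (h a)
  rw [Ideal.absNorm_apply, Submodule.cardQuot_apply] at hcard
  have : Finite (𝓞 k ⧸ v.asIdeal) := Nat.finite_of_card_ne_zero (Nat.ne_zero_of_lt hcard)
  have e : Fin (P.natDegree + 1) ↪ 𝓞 k ⧸ v.asIdeal :=
    (Fin.castLEEmb (Nat.succ_le_of_lt hcard)).trans (Finite.equivFin _).symm.toEmbedding
  choose r hr using fun i => Ideal.Quotient.mk_surjective (e i)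
  have hu : ∀ i j, i ≠ j →
      v.valuation k (algebraMap (𝓞 k) k (r i) - algebraMap (𝓞 k) k (r j)) = 1 := fun i j hij => by
    rw [← map_sub]
    refine le_antisymm (v.valuation_le_one _) (not_lt.1 fun hlt' => hij (e.injective ?_))
    rw [← hr i, ← hr j, Ideal.Quotient.eq]
    exact (v.valuation_lt_one_iff_mem _).1 hlt'
  have hinj : Set.InjOn (fun i => algebraMap (𝓞 k) k (r i))
      ((Finset.univ : Finset (Fin (P.natDegree + 1))) : Set (Fin (P.natDegree + 1))) := by
    intro i _ j _ hij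
    by_contra hne
    have := hu i j hne
    rw [sub_eq_zero.2 hij, map_zero] at this
    exact zero_ne_one this
  have hs := Lagrange.leadingCoeff_eq_sum hinj (P := P) (by
    rw [degree_eq_natDegree hm.ne_zero]; simp)
  rw [hm.leadingCoeff] at hs
  have := congrArg (v.valuation k) hs
  rw [map_one] at this
  refine absurd this.symm (ne_of_lt ((v.valuation k).map_sum_lt one_ne_zero fun i _ => ?_))
  rw [map_div₀, map_prod, Finset.prod_eq_one fun j hj => hu i j (Finset.mem_erase.1 hj).1.symm,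
    div_one]
  exact hlt _

/-- The main theorem, given a place of degree one outside `Sf`. -/
theorem exists_near_unit_or_degreeOne (Sf : Finset Pl) (Si : Finset (InfinitePlace k))
    (tf : (v : Pl) → v.adicCompletion k) (ti : (w : InfinitePlace k) → w.Completion)
    (htf : ∀ v ∈ Sf, ∃ x : (v.adicCompletion k) ⊗[k] L, Algebra.norm (v.adicCompletion k) x = tf v)
    (hti : ∀ w ∈ Si, ∃ x : w.Completion ⊗[k] L, Algebra.norm w.Completion x = ti w)
    (Uf : (v : Pl) → Set (v.adicCompletion k)) (hUf : ∀ v ∈ Sf, IsOpen (Uf v) ∧ tf v ∈ Uf v)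
    (Ui : (w : InfinitePlace k) → Set w.Completion) (hUi : ∀ w ∈ Si, IsOpen (Ui w) ∧ ti w ∈ Ui w)
    (v₀ : Pl) (hv₀ : v₀ ∉ Sf) (hLv₀ : Nonempty (L →ₐ[k] v₀.adicCompletion k)) :
    ∃ t : k, t ≠ 0 ∧ (∀ v ∈ Sf, algebraMap k (v.adicCompletion k) t ∈ Uf v) ∧
      (∀ w ∈ Si, algebraMap k w.Completion t ∈ Ui w) ∧
      (∀ v : Pl, v ∉ Sf → v ≠ v₀ → v.valuation k t ≤ 1) ∧
      ∀ v : Pl, v ∉ Sf → v.valuation k t = 1 ∨ Nonempty (L →ₐ[k] v.adicCompletion k) := by
  classical
  have : FiniteDimensional k L := Module.Finite.of_restrictScalars_finite ℚ k L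
  obtain ⟨n, ω, hω⟩ := exists_integral_basis (k := k) (L := L)
  have hsmall : {v : Pl | Ideal.absNorm v.asIdeal ≤ n}.Finite :=
    (Ideal.finite_setOfPred_absNorm_le n).preimage
      (Function.Injective.injOn fun a b h => HeightOneSpectrum.ext h)
  let S : Finset Pl := (Sf ∪ hsmall.toFinset).erase v₀
  have hv₀S : v₀ ∉ S := Finset.notMem_erase _ _
  have hSf : ∀ v ∈ Sf, v ∈ S := fun v hv =>
    Finset.mem_erase.2 ⟨fun h => hv₀ (h ▸ hv), Finset.mem_union_left _ hv⟩
  let W : (v : Pl) → Set (v.adicCompletion k) := fun v =>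
    if v ∈ Sf then Uf v else Metric.sphere 0 1
  have hW : ∀ v ∈ S, IsOpen (W v) ∧ ∃ X : v.adicCompletion k ⊗[k] L, Algebra.norm _ X ∈ W v := by
    intro v _
    by_cases hv : v ∈ Sf
    · obtain ⟨X, hX⟩ := htf v hv
      simp only [W, if_pos hv]
      exact ⟨(hUf v hv).1, X, hX ▸ (hUf v hv).2⟩
    · simp only [W, if_neg hv]
      exact ⟨IsUltrametricDist.isOpen_sphere _ one_ne_zero, 1, by simp⟩
  let Wi : (w : InfinitePlace k) → Set w.Completion := fun w =>
    if w ∈ Si then Ui w else Set.univ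
  have hWi : ∀ w, IsOpen (Wi w) ∧ ∃ X : w.Completion ⊗[k] L, Algebra.norm _ X ∈ Wi w := by
    intro w
    by_cases hw : w ∈ Si
    · obtain ⟨X, hX⟩ := hti w hw
      simp only [Wi, if_pos hw]
      exact ⟨(hUi w hw).1, X, hX ▸ (hUi w hw).2⟩
    · simp only [Wi, if_neg hw]
      exact ⟨isOpen_univ, 1, Set.mem_univ _⟩
  obtain ⟨x, hxtop, hxint, hxW, hxWi⟩ := exists_primitive_near ω hω v₀ S hv₀S W hW Wi hWi
  have hytop : IntermediateField.adjoin k {-x} = ⊤ := by
    refine top_le_iff.1 (hxtop ▸ IntermediateField.adjoin_simple_le_iff.2 ?_)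
    simpa using neg_mem (IntermediateField.mem_adjoin_simple_self k (-x))
  set P := minpoly k (-x) with hPdef
  have hm : P.Monic := minpoly.monic (IsIntegral.of_finite k _)
  have hdeg : P.natDegree = n := by
    rw [hPdef, (Field.primitive_element_iff_minpoly_natDegree_eq k (-x)).1 hytop,
      Module.finrank_eq_card_basis ω, Fintype.card_fin]
  have hnorm : ∀ a : k, Algebra.norm k (x + a • (1 : L)) = P.eval a := fun a => by
    rw [hPdef, ← norm_shift_eq_eval ω (-x) hytop a, sub_neg_eq_add, add_comm,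
      ← Algebra.algebraMap_eq_smul_one]
  obtain ⟨B, hB⟩ := exists_finset_simple P (Algebra.IsSeparable.isSeparable k (-x))
  let B' : Finset Pl := B \ (insert v₀ S)
  have hV : ∀ v : Pl, ∃ V : Set (v.adicCompletion k), v ∈ S ∪ B' → (IsOpen V ∧ V.Nonempty) ∧
      (v ∈ S → ∀ a : k, algebraMap k _ a ∈ V →
        algebraMap k (v.adicCompletion k) (Algebra.norm k (x + a • (1 : L))) ∈ W v) ∧
      (v ∈ B' → ∀ a : k, algebraMap k _ a ∈ V → v.valuation k a ≤ 1 ∧ v.valuation k (P.eval a) = 1) := by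
    intro v
    by_cases hvS : v ∈ S
    · obtain ⟨V, hVo, hV0, hV⟩ := exists_open_shift ω _ (hW v hvS).1 x 1 (hxW v hvS)
      refine ⟨V, fun _ => ⟨⟨hVo, _, hV0⟩, fun _ => hV, fun h => absurd hvS fun hS => ?_⟩⟩
      exact (Finset.mem_sdiff.1 h).2 (Finset.mem_insert_of_mem hS)
    by_cases hvB : v ∈ B'
    · have hv0 : v ≠ v₀ := fun h => (Finset.mem_sdiff.1 hvB).2 (h ▸ Finset.mem_insert_self _ _)
      have hbig : P.natDegree < Ideal.absNorm v.asIdeal := by
        rw [hdeg]
        by_contra h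
        exact hvS (Finset.mem_erase.2 ⟨hv0, Finset.mem_union_right _
          (hsmall.mem_toFinset.2 (show v ∈ {v : Pl | _} from not_lt.1 h))⟩)
      obtain ⟨a₀, ha₀⟩ := exists_eval_unit v P hm hbig (hxint v hv0 hvS)
      let g : v.adicCompletion k → v.adicCompletion k := fun y =>
        (P.map (algebraMap k (v.adicCompletion k))).eval y
      have hg : ∀ a : k, g (algebraMap k _ a) = algebraMap k _ (P.eval a) := fun a =>
        eval_map_apply ..
      refine ⟨Metric.closedBall 0 1 ∩ g ⁻¹' Metric.sphere 0 1, fun _ => ⟨⟨?_, ?_⟩,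
        fun h => absurd h hvS, fun _ a ha => ?_⟩⟩
      · exact (IsUltrametricDist.isOpen_closedBall _ one_ne_zero).inter
          ((IsUltrametricDist.isOpen_sphere _ one_ne_zero).preimage (Polynomial.continuous _))
      · refine ⟨algebraMap k _ (algebraMap (𝓞 k) k a₀), ?_, ?_⟩
        · rw [mem_closedBall_zero_iff, norm_algebraMap_le_one_iff]
          exact v.valuation_le_one a₀
        · rw [Set.mem_preimage, hg, mem_sphere_zero_iff_norm]
          refine le_antisymm ((norm_algebraMap_le_one_iff v _).2 ha₀.le) (not_lt.1 fun h => ?_)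
          rw [norm_algebraMap_lt_one_iff, ha₀] at h
          exact lt_irrefl _ h
      · rw [Set.mem_inter_iff, mem_closedBall_zero_iff, norm_algebraMap_le_one_iff, Set.mem_preimage,
          hg, mem_sphere_zero_iff_norm] at ha
        exact ⟨ha.1, le_antisymm ((norm_algebraMap_le_one_iff v _).1 ha.2.le)
          (not_lt.1 fun h => ((norm_algebraMap_lt_one_iff v _).2 h).ne ha.2)⟩
    exact ⟨Set.univ, fun h => absurd h (by simp [hvS, hvB])⟩
  choose V hV using hV
  choose Vi hVi using fun w => exists_open_shift ω _ (hWi w).1 x 1 (hxWi w)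
  have hv₀SB : v₀ ∉ S ∪ B' := by simp [hv₀S, B']
  obtain ⟨a, haF, ha₁, ha₂, ha₃⟩ := exists_approx_avoid v₀ (S ∪ B') hv₀SB V
    (fun v hv => (hV v hv).1) Vi (fun w => ⟨(hVi w).1, _, (hVi w).2.1⟩) P.roots.toFinset
  have hS : ∀ v ∈ S, algebraMap k (v.adicCompletion k) (P.eval a) ∈ W v := fun v hv => by
    rw [← hnorm]
    exact (hV v (Finset.mem_union_left _ hv)).2.1 hv a (ha₂ v (Finset.mem_union_left _ hv))
  refine ⟨P.eval a, fun h => haF (by simp [hm.ne_zero, h]), fun v hv => ?_, fun w hw => ?_, ?_⟩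
  · simpa only [W, if_pos hv] using hS v (hSf v hv)
  · have := (hVi w).2.2 a (ha₃ w)
    rw [hnorm] at this
    simpa only [Wi, if_pos hw] using this
  · have key : ∀ v : Pl, v ∉ Sf → v ≠ v₀ → v.valuation k (P.eval a) = 1 ∨
        (v.valuation k (P.eval a) < 1 ∧ Nonempty (L →ₐ[k] v.adicCompletion k)) := by
      intro v hvf hv0
      by_cases hvS : v ∈ S
      · have := hS v hvS
        simp only [W, if_neg hvf, mem_sphere_zero_iff_norm] at this
        exact .inl (le_antisymm ((norm_algebraMap_le_one_iff v _).1 this.le)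
          (not_lt.1 fun h => ((norm_algebraMap_lt_one_iff v _).2 h).ne this))
      by_cases hvB : v ∈ B'
      · have hv := Finset.mem_union_right S hvB
        exact .inl ((hV v hv).2.2 hvB a (ha₂ v hv)).2
      have hc := hxint v hv0 hvS
      have ha := ha₁ v hv0 (by simp [hvS, hvB])
      rcases (valuation_eval_le_one v P hc a ha).lt_or_eq with h | h
      · have hnotB : v ∉ B := fun hb => hvB (Finset.mem_sdiff.2 ⟨hb, by simp [hv0, hvS]⟩)
        obtain ⟨r, hr⟩ := exists_root_adic v P hc a ha h (hB v hnotB hc a ha h)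
        exact .inr ⟨h, nonempty_algHom_of_root (-x) (IsIntegral.of_finite k _) hytop r hr⟩
      · exact .inl h
    refine ⟨fun v h1 h2 => ?_, fun v h1 => ?_⟩
    · rcases key v h1 h2 with h | h
      · exact h.le
      · exact h.1.le
    · by_cases h2 : v = v₀
      · exact .inr (h2 ▸ hLv₀)
      · exact (key v h1 h2).imp_right (·.2)

end Groth.Agent.Lib.NFApprox
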